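import Mathlib
import Cfsg.Agent.Spor.LC.Kron
import Cfsg.Agent.Spor.LeechGen

/-!
# Leech lattice vectors and elements of `Co0` as packed numbers

A vector `x` with small coordinates has the code `cd x` (digit `i` is `x i + 8`); `vec n` is the
lattice vector with code `n`. A matrix is packed into one number `R`; `el R` is the element of `Co0`
it defines and `app R` its action on codes.
-/

set_option autoImplicit false

namespace Cfsg.Agent.Spor.LC

open Finset Cfsg.Agent.Spor.Leech
open Cfsg.Agent.Spor.Golay (ptIdx ptOf maskSet gbMask sum_pt ptIdx_ptOf ptIdx_lt ptOf_ptIdx)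

/-- The code of a vector. -/
def cd (x : Vec) : ℕ := pk (fun i => (x (ptOf i) + 8).toNat) 24

/-- The vector with a given code. -/
def dec (n : ℕ) : Vec := fun p => (dg n (ptIdx p) : ℤ) - 8

/-- The coordinates are small enough for the code to be meaningful. -/
def Bd (x : Vec) : Prop := ∀ p, -8 ≤ x p ∧ x p < 24

theorem abs_le_of_nm {x : Λ} (h : nm x ≤ 64) (p : GolayPt) : -8 ≤ (x : Vec) p ∧ (x : Vec) p ≤ 8 := by
  have h1 : (x : Vec) p ^ 2 ≤ 8 ^ 2 := (sq_le_sqNorm _ p).trans h
  exact abs_le.1 (by simpa using abs_le_of_sq_le_sq h1 (by norm_num))

theorem bd_of_nm {x : Λ} (h : nm x ≤ 64) : Bd (x : Vec) := fun p => by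
  have := abs_le_of_nm h p; omega

theorem Bd.lt {x : Vec} (h : Bd x) : ∀ k < 24, (x (ptOf k) + 8).toNat < 65536 := fun k _ => by
  have := h (ptOf k); omega

theorem dg_cd {x : Vec} (h : Bd x) {i : ℕ} (hi : i < 24) : (dg (cd x) i : ℤ) = x (ptOf i) + 8 := by
  rw [cd, dg_pk h.lt hi]; have := h (ptOf i); omega

theorem dg_cd_pt {x : Vec} (h : Bd x) (p : GolayPt) : (dg (cd x) (ptIdx p) : ℤ) = x p + 8 := by
  rw [dg_cd h (ptIdx_lt p), ptOf_ptIdx]

theorem dec_cd {x : Vec} (h : Bd x) : dec (cd x) = x := funext fun p => by
  rw [dec, dg_cd_pt h]; ring

theorem cd_inj {x y : Vec} (hx : Bd x) (hy : Bd y) (h : cd x = cd y) : x = y := by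
  rw [← dec_cd hx, h, dec_cd hy]

theorem cd_inj_nm {x y : Λ} (hx : nm x ≤ 64) (hy : nm y ≤ 64) (h : cd (x : Vec) = cd (y : Vec)) :
    x = y := Subtype.ext (cd_inj (bd_of_nm hx) (bd_of_nm hy) h)

theorem cd_cast {x : Vec} (h : Bd x) :
    (cd x : ℤ) = ∑ l ∈ range 24, (x (ptOf l) + 8) * 65536 ^ l := by
  rw [cd, pk_cast]
  exact sum_congr rfl fun l _ => by rw [Int.toNat_of_nonneg (by have := h (ptOf l); omega)]

theorem cd_eq_pk {x : Vec} {d : ℕ → ℕ} (h : ∀ i < 24, x (ptOf i) + 8 = d i) : cd x = pk d 24 :=
  pk_congr fun i hi => by rw [h i hi]; rfl

theorem cd_lt {x : Vec} (h : Bd x) : cd x < 65536 ^ 24 := pk_lt h.lt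

theorem sum_ptOf (f : GolayPt → ℤ) : ∑ p, f p = ∑ i ∈ range 24, f (ptOf i) := by
  rw [← sum_pt fun i => f (ptOf i)]; simp only [ptOf_ptIdx]

/-- The sum of the digits. -/
theorem cd_mod {x : Vec} (h : Bd x) : ((cd x % 65535 : ℕ) : ℤ) = ∑ p, x p + 192 := by
  have h1 : ((∑ k ∈ range 24, (x (ptOf k) + 8).toNat : ℕ) : ℤ) = ∑ p, x p + 192 := by
    rw [sum_ptOf, Nat.cast_sum,
      sum_congr rfl (g := fun k => x (ptOf k) + 8) fun k _ =>
        Int.toNat_of_nonneg (by have := h (ptOf k); omega), sum_add_distrib]
    simp
  have h2 : ∑ k ∈ range 24, (x (ptOf k) + 8).toNat ≤ 24 * 32 :=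
    (sum_le_card_nsmul _ _ 32 fun k _ => by have := h (ptOf k); omega).trans (by simp)
  rw [cd, pk_mod, Nat.mod_eq_of_lt (by omega), h1]

/-- All 24 digits are below 32. -/
def val (n : ℕ) : Bool := Nat.beq (Nat.land n (Nat.mul 31 (ones 24))) n

theorem val_spec {n : ℕ} (h : val n = true) : Bd (dec n) ∧ cd (dec n) = n := by
  obtain ⟨h1, h2⟩ := small_of_land (Nat.eq_of_beq_eq_true h)
  refine ⟨fun p => by have := h2 _ (ptIdx_lt p); unfold dec; omega, ?_⟩
  rw [← pk_dg h1]
  refine (cd_eq_pk fun i hi => ?_).trans (by rw [pk_dg h1])
  rw [dec, ptIdx_ptOf hi, pk_dg h1]; ring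

/-! ### Matrices -/

/-- The table of entries (shifted by 8) of a packed matrix. -/
def mT (R : ℕ) : ℕ := Nat.add R (Nat.mul 8 (ones 577))

/-- The entry `(i, j)` of a packed matrix. -/
def mat (R i j : ℕ) : ℤ := (dg (mT R) (24 * i + 23 - j) : ℤ) - 8

/-- Size conditions on a packed matrix. -/
noncomputable def matV (R : ℕ) : Bool :=
  band (Nat.beq (Nat.land (mT R) (Nat.mul 31 (ones 577))) (mT R)) (Nat.ble (Nat.mul R y0) k0)

/-- Row `i` of the matrix times `x`. -/
def rowDot (R i : ℕ) (x : Vec) : ℤ := ∑ p, mat R i (ptIdx p) * x p

theorem matV_small {R : ℕ} (h : matV R = true) :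
    mT R < 65536 ^ 577 ∧ ∀ k < 577, dg (mT R) k < 32 :=
  small_of_land (Nat.eq_of_beq_eq_true ((band_iff _ _).1 h).1)

theorem rowDot_eq (R i : ℕ) (x : Vec) :
    rowDot R i x = ∑ l ∈ range 24, ((dg (mT R) (24 * i + 23 - l) : ℤ) - 8) * x (ptOf l) := by
  rw [rowDot, sum_ptOf]
  exact sum_congr rfl fun l hl => by rw [ptIdx_ptOf (mem_range.1 hl), mat]

theorem abs_rowDot {R : ℕ} (h : matV R = true) {x : Vec} (hx : Bd x) {i : ℕ} (hi : i < 24) :
    |rowDot R i x| ≤ 24576 := by
  have := abs_cv_le (A := 577) (m := fun a => (dg (mT R) a : ℤ) - 8) (x := fun l => x (ptOf l))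
    (fun a ha => by have := (matV_small h).2 a ha; rw [abs_le]; omega)
    (fun l _ => by have := hx (ptOf l); rw [abs_le]; omega) (24 * i + 23)
  rwa [cv_row _ _ (by omega), ← rowDot_eq] at this

theorem app0_cd {R : ℕ} (h : matV R = true) {x : Vec} (hx : Bd x) :
    app0 R (cd x) = 65536 ^ 23 * pk (fun i => (32768 + rowDot R i x).toNat) 24 := by
  obtain ⟨h1, h2⟩ := matV_small h
  have hR : (R : ℤ) = ∑ a ∈ range 577, ((dg (mT R) a : ℤ) - 8) * 65536 ^ a := by
    have e1 := pk_cast (dg (mT R)) 577
    have e2 := pk_cast (fun _ => 8) 577
    rw [pk_dg h1] at e1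
    rw [pk_const] at e2
    have e3 : mT R = R + 8 * ones 577 := rfl
    simp only [sub_mul, sum_sub_distrib]
    rw [← e1]
    push_cast at e2
    rw [← e2, e3]; push_cast; ring
  rw [app0_eq hR (cd_cast hx) (fun a ha => by have := h2 a ha; rw [abs_le]; omega)
    (fun l _ => by have := hx (ptOf l); rw [abs_le]; omega)
    (Nat.le_of_ble_eq_true ((band_iff _ _).1 h).2)]
  simp only [rowDot_eq]

/-- The 24 row products, each shifted by `2^15`. -/
def app1 (R n : ℕ) : ℕ := Nat.shiftRight (app0 R n) 368

theorem app1_cd {R : ℕ} (h : matV R = true) {x : Vec} (hx : Bd x) :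
    app1 R (cd x) = pk (fun i => (32768 + rowDot R i x).toNat) 24 := by
  have e : (2 : ℕ) ^ 368 = 65536 ^ 23 := by decide +kernel
  rw [app1, app0_cd h hx, Nat.shiftRight_eq', Nat.shiftRight_eq_div_pow, e,
    Nat.mul_div_cancel_left _ (by positivity)]

theorem rowDot_lt {R : ℕ} (h : matV R = true) {x : Vec} (hx : Bd x) :
    ∀ i < 24, (32768 + rowDot R i x).toNat < 65536 := fun i hi => by
  have := abs_le.1 (abs_rowDot h hx hi); omega

theorem dg_app1 {R : ℕ} (h : matV R = true) {x : Vec} (hx : Bd x) {i : ℕ} (hi : i < 24) :
    (dg (app1 R (cd x)) i : ℤ) = 32768 + rowDot R i x := by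
  rw [app1_cd h hx, dg_pk (rowDot_lt h hx) hi]
  have := abs_le.1 (abs_rowDot h hx hi); omega

/-- The offset removed in `app`. -/
def c0 : ℕ := Nat.shiftLeft (Nat.mul 32704 (ones 24)) 368

/-- The action of a packed matrix (divided by 8) on codes. -/
def app (R n : ℕ) : ℕ := Nat.shiftRight (Nat.sub (app0 R n) c0) 371

theorem app0_eq_iff {R : ℕ} (h : matV R = true) {x y : Vec} (hx : Bd x) (hy : Bd y) :
    app0 R (cd x) = Nat.add (Nat.shiftLeft (cd y) 371) c0 ↔
      ∀ i < 24, rowDot R i x = 8 * y (ptOf i) := by
  have e : Nat.add (Nat.shiftLeft (cd y) 371) c0 =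
      65536 ^ 23 * pk (fun i => 8 * (y (ptOf i) + 8).toNat + 32704) 24 := by
    have e1 : c0 = 65536 ^ 23 * (32704 * ones 24) := by decide +kernel
    have e2 : ∀ a, Nat.shiftLeft a 371 = a * (65536 ^ 23 * 8) := fun a =>
      (Nat.shiftLeft_eq a 371).trans (congrArg _ (by decide +kernel))
    have e3 : pk (fun i => 8 * (y (ptOf i) + 8).toNat + 32704) 24 = 8 * cd y + 32704 * ones 24 := by
      rw [← pk_const, cd, ← pk_mul, ← pk_add]
    rw [e3, e1, e2, Nat.add_eq]
    generalize cd y = a
    generalize ones 24 = b
    generalize 65536 ^ 23 = c
    ring
  rw [e, app0_cd h hx, Nat.mul_right_inj (by positivity)]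
  constructor
  · intro h1 i hi
    have h2 := pk_inj (rowDot_lt h hx) (fun k _ => by have := hy (ptOf k); omega) h1 i hi
    have := abs_le.1 (abs_rowDot h hx hi)
    have := hy (ptOf i)
    omega
  · intro h1
    exact pk_congr fun i hi => by have := hy (ptOf i); rw [h1 i hi]; omega

theorem app_cd {R : ℕ} (h : matV R = true) {x y : Vec} (hx : Bd x) (hy : Bd y)
    (e : ∀ i < 24, rowDot R i x = 8 * y (ptOf i)) : app R (cd x) = cd y := by
  rw [app, (app0_eq_iff h hx hy).2 e, Nat.sub_eq, Nat.add_eq, Nat.add_sub_cancel,
    Nat.shiftRight_eq', Nat.shiftLeft_eq', Nat.shiftLeft_shiftRight]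

/-! ### Membership test -/

/-- The parity checks of the lattice as a packed matrix. -/
def rH : ℕ :=
  0x1000000000000000000000000000000000000000000000000000000000000000000000000000000000000000000000000000000000000000000000000000000000000000000000000000000000000000000000000000000000000000000000000000000000000000000000000000000000000000000000000000000000000000000000000000000000000000000000000000000000000000000000000000000000000000000000000000000000000000000000000000000000000000000000000000000000000000000000000000000000000000000000000000000000000000000000000000000000000000000000000000000000000000000000000000000000000000000000000000000000000000000000000000000000000000000000000000000000000000000000000000000000000000000000000000000000000000000000000000000000000000000000000000000000000000000000000000000000000000000000000000000000000000000000000000000000000000000000000000000000000000000000000000000000000000000000000000000000000000000000000000000000000000000000000000000000000000000000000000000000000000000000000000000000000000000000000000000000000000000000000000000000000000000000000000000000000000000000000000000000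00000000000000000000000000000000000000000010001000100010001000100010001000100010001000100010001000100010001000100010001000100010000fffd000000010000000100000001000100010000000000000001000100000000000000000000000000000000000000000001000100000001000000010001000100000000000000010001000000000000000000000000000000000000000000000001000100010001000000010000000000000000000000000000000000010000000000010000000000000000000000010001000100010000000000000001000000000000000100000001000000010000000000000000000000000000000100000001000100010000000000000000000000010000000000000000000100010001000000000000000000000001000000000001000100010000000000000001000000000000000000010000000100000000000000010000000000010000000000000001000100010001000000000000000000000001000000000001000100000000000000000000000100000000000000000001000100010001000100000001000000000000000000000000000000000001000000000001000000000000000000000001000100010000000000010000000100000000000100000000000100000000000000000001000000000000000000000001000100010000000000000000000100000000000000000001000000000001000100010000000000000000000000000001000100010000000000010001000000010001000000000000000000000000000100000000000000000000000000000001000100010000000100000000000100000001000000010000000000010000000000000000000000000000000000000001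

/-- Test for membership in the lattice. -/
noncomputable def isL (n : ℕ) : Bool :=
  band (bor (Nat.beq (Nat.land n (ones 24)) 0) (Nat.beq (Nat.land n (ones 24)) (ones 24)))
    (Nat.beq (Nat.land (app1 rH n) 0x7000300030003000300030003000300030003000300030003) 0)

theorem matV_rH : matV rH = true := by decide +kernel

theorem mat_rH : (∀ i < 12, ∀ j < 24, mat rH i j = if (gbMask i).testBit j then 1 else 0) ∧
    ∀ j < 24, mat rH 12 j = if j = 23 then -3 else 1 := by decide +kernel

theorem mem_of_isL {x : Vec} (hx : Bd x) (h : isL (cd x) = true) : x ∈ leechLattice := by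
  rw [isL, band_iff, bor_iff, nbeq_iff, nbeq_iff, nbeq_iff] at h
  have h0 : ∀ k < 24, (fun _ : ℕ => 1) k < 65536 := fun _ _ => by norm_num
  have h1 : ∀ i < 24, dg (Nat.land (cd x) (ones 24)) i = dg (cd x) i % 2 := fun i hi => by
    rw [dg_land, ones_eq, dg_pk h0 hi, land_1]
  have h2 : ∀ i < 13, Nat.land (dg (app1 rH (cd x)) i) (if i = 12 then 7 else 3) = 0 := by
    intro i hi
    have e : ∀ i < 13, dg 0x7000300030003000300030003000300030003000300030003 i = if i = 12 then 7 else 3 := by
      decide +kernel
    rw [← e i hi, ← dg_land, h.2, dg_eq]; simp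
  refine mem_leech_of_checks (fun p => ?_) (fun i hi => ?_) ?_
  · have a := dg_cd_pt hx p
    have b := dg_cd_pt hx none
    have c := h1 _ (ptIdx_lt p)
    have d := h1 _ (ptIdx_lt none)
    rcases h.1 with e | e
    · rw [e, dg_eq, Nat.zero_div] at c d; omega
    · rw [e, ones_eq, dg_pk h0 (ptIdx_lt _)] at c d; omega
  · have a := h2 i (by omega)
    have b := dg_app1 matV_rH hx (by omega : i < 24)
    rw [if_neg (by omega), land_3] at a
    have c : rowDot rH i x = ∑ j ∈ maskSet (gbMask i), x j := by
      rw [rowDot, maskSet, sum_filter]
      refine sum_congr rfl fun p _ => ?_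
      rw [mat_rH.1 i hi _ (ptIdx_lt p)]; split_ifs <;> simp
    omega
  · have a := h2 12 (by omega)
    have b := dg_app1 matV_rH hx (by omega : 12 < 24)
    rw [if_pos rfl, land_7] at a
    have c : rowDot rH 12 x = ∑ j, x j - 4 * x none := by
      have : ∀ p, mat rH 12 (ptIdx p) * x p = x p - if p = none then 4 * x p else 0 := by
        intro p; rw [mat_rH.2 _ (ptIdx_lt p)]; simp only [ptIdx_eq_23]; split_ifs <;> ring
      simp only [rowDot, this, sum_sub_distrib, sum_ite_eq', mem_univ, if_true]
    omega

/-- `n` is the code of a lattice vector. -/
noncomputable def okv (n : ℕ) : Bool := band (val n) (isL n)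

open Classical in
/-- The lattice vector with code `n`. -/
noncomputable def vec (n : ℕ) : Λ := if h : dec n ∈ leechLattice then ⟨dec n, h⟩ else 0

theorem vec_cd {x : Λ} (h : Bd (x : Vec)) : vec (cd (x : Vec)) = x := by
  have h1 : dec (cd (x : Vec)) ∈ leechLattice := by rw [dec_cd h]; exact x.2
  rw [vec, dif_pos h1]; exact Subtype.ext (dec_cd h)

theorem vec_cd_nm {x : Λ} (h : nm x ≤ 64) : vec (cd (x : Vec)) = x := vec_cd (bd_of_nm h)

theorem okv_spec {n : ℕ} (h : okv n = true) :
    (vec n : Vec) = dec n ∧ Bd (vec n : Vec) ∧ cd (vec n : Vec) = n := by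
  rw [okv, band_iff] at h
  obtain ⟨h1, h2⟩ := val_spec h.1
  have h3 : dec n ∈ leechLattice := mem_of_isL h1 (by rw [h2]; exact h.2)
  have h4 : (vec n : Vec) = dec n := by rw [vec, dif_pos h3]
  rw [h4]; exact ⟨rfl, h1, h2⟩

/-! ### Inner products -/

/-- The matrix reversing the order of the coordinates. -/
def rRev : ℕ :=
  0x1000100000000000000000000000000000000000000000000000000000000000000000000000000000000000000000000000000010000000000000000000000000000000000000000000000000000000000000000000000000000000000000000000000000001000000000000000000000000000000000000000000000000000000000000000000000000000000000000000000000000000100000000000000000000000000000000000000000000000000000000000000000000000000000000000000000000000000010000000000000000000000000000000000000000000000000000000000000000000000000000000000000000000000000001000000000000000000000000000000000000000000000000000000000000000000000000000000000000000000000000000100000000000000000000000000000000000000000000000000000000000000000000000000000000000000000000000000010000000000000000000000000000000000000000000000000000000000000000000000000000000000000000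000000000001000000000000000000000000000000000000000000000000000000000000000000000000000000000000000000000000000100000000000000000000000000000000000000000000000000000000000000000000000000000000000000000000000000010000000000000000000000000000000000000000000000000000000000000000000000000000000000000000000000000001000000000000000000000000000000000000000000000000000000000000000000000000000000000000000000000000000100000000000000000000000000000000000000000000000000000000000000000000000000000000000000000000000000010000000000000000000000000000000000000000000000000000000000000000000000000000000000000000000000000001000000000000000000000000000000000000000000000000000000000000000000000000000000000000000000000000000100000000000000000000000000000000000000000000000000000000000000000000000000000000000000000000000000010000000000000000000000000000000000000000000000000000000000000000000000000000000000000000000000000001000000000000000000000000000000000000000000000000000000000000000000000000000000000000000000000000000100000000000000000000000000000000000000000000000000000000000000000000000000000000000000000000000000010000000000000000000000000000000000000000000000000000000000000000000000000000000000000000000000000001000000000000000000000000000000000000000000000000000000000000000000000000000000000000000000000000000100000000000000000000000000000000000000000000000000000000000000000000000000000000000000000000000000010000000000000000000000000000000000000000000000000000000000000000000000000000000000000000000000000001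

theorem matV_rRev : matV rRev = true := by decide +kernel

theorem mat_rRev : ∀ i < 24, ∀ j < 24, mat rRev i j = if j = 23 - i then 1 else 0 := by
  decide +kernel

/-- A vector packed in reverse order, for use in `dotA`. -/
def rowOf (n : ℕ) : ℕ :=
  Nat.sub (Nat.add (app1 rRev n) (Nat.shiftLeft 1 384)) (Nat.mul 32768 (ones 24))

theorem rowDot_rRev (x : Vec) {i : ℕ} (hi : i < 24) : rowDot rRev i x = x (ptOf (23 - i)) := by
  rw [rowDot, sum_ptOf, sum_congr rfl (g := fun l => if l = 23 - i then x (ptOf l) else 0)
    fun l hl => by
      rw [ptIdx_ptOf (mem_range.1 hl), mat_rRev i hi l (mem_range.1 hl)]; split_ifs <;> simp]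
  rw [sum_ite_eq', if_pos (mem_range.2 (by omega))]

theorem rowOf_cd {x : Vec} (hx : Bd x) : (rowOf (cd x) : ℤ) =
    ∑ a ∈ range 25, (if a = 24 then 1 else x (ptOf (23 - a))) * 65536 ^ a := by
  have e1 : Nat.shiftLeft 1 384 = 65536 ^ 24 := by decide +kernel
  have e2 : 32768 * ones 24 ≤ 65536 ^ 24 := by decide +kernel
  rw [rowOf, e1, Nat.sub_eq, Nat.add_eq, Nat.mul_eq, Nat.cast_sub (by omega), app1_cd matV_rRev hx,
    sum_range_succ, if_pos rfl, ← pk_const, Nat.cast_add, pk_cast, pk_cast, add_sub_right_comm,
    ← sum_sub_distrib]
  refine congrArg₂ (· + ·) (sum_congr rfl fun a ha => ?_) (by rw [one_mul, Nat.cast_pow]; rfl)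
  have h1 := mem_range.1 ha
  have := hx (ptOf (23 - a))
  rw [rowDot_rRev x h1, if_neg (by omega), Int.toNat_of_nonneg (by omega)]; push_cast; ring

theorem dotA_rowOf {x y : Vec} (hx : Bd x) (hy : Bd y) :
    (dotA (rowOf (cd x)) (cd y) : ℤ) = 32768 + dotInt x y := by
  rw [dotA_eq (rowOf_cd hx) (cd_cast hy)
    (fun a _ => by have := hx (ptOf (23 - a)); split_ifs <;> rw [abs_le] <;> omega)
    (fun l _ => by have := hy (ptOf l); rw [abs_le]; omega), dotInt_def, sum_ptOf]
  refine congrArg _ (sum_congr rfl fun l hl => ?_)
  have := mem_range.1 hl
  rw [if_neg (by omega), show 23 - (23 - l) = l by omega]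

/-- `2^15` plus the inner product of the vectors with codes `a` and `n`. -/
def ipc (a n : ℕ) : ℕ := dotA (rowOf a) n

theorem ipc_cd {x y : Λ} (hx : Bd (x : Vec)) (hy : Bd (y : Vec)) :
    (ipc (cd (x : Vec)) (cd (y : Vec)) : ℤ) = 32768 + ip x y := dotA_rowOf hx hy

theorem ipc_vec {a n : ℕ} (ha : okv a = true) (hn : okv n = true) :
    (ipc a n : ℤ) = 32768 + ip (vec a) (vec n) := by
  rw [← ipc_cd (okv_spec ha).2.1 (okv_spec hn).2.1, (okv_spec ha).2.2, (okv_spec hn).2.2]

/-- `n` is the code of a lattice vector of norm `N`. -/
noncomputable def okN (N n : ℕ) : Bool := band (okv n) (Nat.beq (ipc n n) (Nat.add 32768 N))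

theorem okN_spec {N n : ℕ} (h : okN N n = true) : nm (vec n) = N ∧ cd (vec n : Vec) = n := by
  rw [okN, band_iff, nbeq_iff] at h
  have := ipc_vec h.1 h.1
  rw [h.2, ip_self, Nat.add_eq] at this
  exact ⟨by push_cast at this; omega, (okv_spec h.1).2.2⟩

/-! ### Elements of `Co0` -/

/-- The code of row `j`. -/
noncomputable def rowc (R j : ℕ) : ℕ :=
  force (mT R) fun T => pkR (fun l => dg T (Nat.sub (Nat.add (Nat.mul 24 j) 23) l)) 24

/-- The codes of the generators of the lattice. -/
def genL : List ℕ :=
  [0x40008000800080008000800080008000800080008000800080008000800080008000800080008000800080008000c,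
    0x4000800080008000800080008000800080008000800080008000800080008000800080008000800080008000c0008,
    0x400080008000800080008000800080008000800080008000800080008000800080008000800080008000c00080008,
    0x40008000800080008000800080008000800080008000800080008000800080008000800080008000c000800080008,
    0x4000800080008000800080008000800080008000800080008000800080008000800080008000c0008000800080008,
    0x400080008000800080008000800080008000800080008000800080008000800080008000c00080008000800080008,
    0x40008000800080008000800080008000800080008000800080008000800080008000c000800080008000800080008,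
    0x4000800080008000800080008000800080008000800080008000800080008000c0008000800080008000800080008,
    0x400080008000800080008000800080008000800080008000800080008000c00080008000800080008000800080008,
    0x40008000800080008000800080008000800080008000800080008000c000800080008000800080008000800080008,
    0x4000800080008000800080008000800080008000800080008000c0008000800080008000800080008000800080008,
    0x400080008000800080008000800080008000800080008000c00080008000800080008000800080008000800080008,
    0x40008000800080008000800080008000800080008000c000800080008000800080008000800080008000800080008,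
    0x4000800080008000800080008000800080008000c0008000800080008000800080008000800080008000800080008,
    0x400080008000800080008000800080008000c00080008000800080008000800080008000800080008000800080008,
    0x40008000800080008000800080008000c000800080008000800080008000800080008000800080008000800080008,
    0x4000800080008000800080008000c0008000800080008000800080008000800080008000800080008000800080008,
    0x400080008000800080008000c00080008000800080008000800080008000800080008000800080008000800080008,
    0x40008000800080008000c000800080008000800080008000800080008000800080008000800080008000800080008,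
    0x4000800080008000c0008000800080008000800080008000800080008000800080008000800080008000800080008,
    0x400080008000c00080008000800080008000800080008000800080008000800080008000800080008000800080008,
    0x40008000c000800080008000800080008000800080008000800080008000800080008000800080008000800080008,
    0x4000c0008000800080008000800080008000800080008000800080008000800080008000800080008000800080008,
    0x1000080008000800080008000800080008000800080008000800080008000800080008000800080008000800080008,
    0xa000800080008000800080008000800080008000a00080008000a0008000a0008000a00080008000a0008000a000a,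
    0xa0008000800080008000800080008000a000800080008000800080008000a000a0008000a000a00080008000a000a,
    0xa000800080008000800080008000a000a000a00080008000a0008000800080008000a0008000800080008000a000a,
    0xa00080008000800080008000a0008000800080008000a00080008000a00080008000a0008000a00080008000a000a,
    0xa00080008000800080008000a00080008000a00080008000800080008000800080008000a0008000a000a000a000a,
    0xa0008000800080008000a00080008000800080008000a000a00080008000a00080008000800080008000a000a000a,
    0xa000800080008000a00080008000a000800080008000a0008000a0008000800080008000a000800080008000a000a,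
    0xa00080008000a00080008000800080008000a000a000a0008000800080008000a00080008000800080008000a000a,
    0xa0008000a0008000800080008000800080008000a0008000a0008000a000800080008000a000800080008000a000a,
    0xa000a00080008000800080008000a00080008000a00080008000800080008000800080008000a0008000a000a000a,
    0xa00080008000800080008000800080008000800080008000a000a000800080008000a000a000a0008000a0008000a,
    0xa0008000800080008000800080008000800080008000a000a000800080008000a000a000a0008000a0008000a0008,
    0x500090009000900090009000900090009000900090009000900090009000900090009000900090009000900090009]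

theorem genL_spec : ∀ k < 37, pkR (fun j => (genN k j + 8).toNat) 24 ∈ genL ∧
    ∀ j < 24, -8 ≤ genN k j ∧ genN k j < 24 := by decide +kernel

/-- Test: the packed matrix is eight times an automorphism of the lattice. -/
noncomputable def matOK (R : ℕ) : Bool :=
  band (matV R) (band
    (Spor.allLt 24 fun j => Nat.beq (app1 R (rowc R j))
      (Nat.add (Nat.mul 32768 (ones 24)) (Nat.shiftLeft 64 (Nat.mul 16 j))))
    (allL genL fun n => force (app R n) fun y =>
      band (okv y) (Nat.beq (app0 R n) (Nat.add (Nat.shiftLeft y 371) c0))))

theorem matV_of_matOK {R : ℕ} (h : matOK R = true) : matV R = true := ((band_iff _ _).1 h).1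

theorem orth_comm {M : GolayPt → GolayPt → ℤ}
    (h : ∀ i j, ∑ k, M i k * M j k = if i = j then 64 else 0) (j k : GolayPt) :
    ∑ i, M i j * M i k = if j = k then 64 else 0 := by
  let N : Matrix GolayPt GolayPt ℚ := Matrix.of fun i j => (M i j : ℚ) / 8
  have h1 : N * N.transpose = 1 := by
    ext i j
    have := congrArg (Int.cast : ℤ → ℚ) (h i j)
    push_cast at this
    simp only [N, Matrix.mul_apply, Matrix.transpose_apply, Matrix.of_apply, Matrix.one_apply,
      div_mul_div_comm, ← sum_div, this]
    split_ifs <;> norm_num
  have h2 : (N.transpose * N) j k = (1 : Matrix GolayPt GolayPt ℚ) j k := by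
    rw [mul_eq_one_comm.1 h1]
  simp only [N, Matrix.mul_apply, Matrix.transpose_apply, Matrix.of_apply, Matrix.one_apply,
    div_mul_div_comm, ← sum_div] at h2
  have h3 : (∑ i, (M i j : ℚ) * M i k) = if j = k then 64 else 0 := by
    split_ifs at h2 ⊢ <;> linarith
  exact_mod_cast h3

theorem isAutMat_of_matOK {R : ℕ} (h : matOK R = true) :
    IsAutMat fun p q => mat R (ptIdx p) (ptIdx q) := by
  have hV := matV_of_matOK h
  rw [matOK, band_iff, band_iff, Spor.allLt_iff, allL_iff] at h
  have key : ∀ k < 37, ∀ x : Vec, (∀ j, x j = genN k (ptIdx j)) →
      MapsInto (fun p q => mat R (ptIdx p) (ptIdx q)) x := by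
    intro k hk x hx
    obtain ⟨g1, g2⟩ := genL_spec k hk
    have hb : Bd x := fun p => by rw [hx]; exact g2 _ (ptIdx_lt p)
    have hc : pkR (fun j => (genN k j + 8).toNat) 24 = cd x := by
      rw [pkR_eq]; exact pk_congr fun i hi => by rw [hx, ptIdx_ptOf hi]
    have h1 := h.2.2 _ g1
    rw [force_eq, band_iff, nbeq_iff, hc] at h1
    obtain ⟨-, a2, a3⟩ := okv_spec h1.1
    refine ⟨_, (vec (app R (cd x))).2, fun p => ?_⟩
    have := (app0_eq_iff hV hb a2).1 (by rw [a3]; exact h1.2) _ (ptIdx_lt p)
    rwa [ptOf_ptIdx] at this
  refine ⟨orth_comm fun p q => ?_,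
    fun i hi => key (ptIdx i) (by have := ptIdx_lt i; omega) _ fun j => ?_,
    key 23 (by norm_num) _ fun j => ?_, fun i hi => key (i + 24) (by omega) _ fun j => ?_,
    key 36 (by norm_num) _ fun j => ?_⟩
  · have hq := ptIdx_lt q
    have hb : Bd fun k => mat R (ptIdx q) (ptIdx k) := fun k => by
      have := (matV_small hV).2 (24 * ptIdx q + 23 - ptIdx k) (by omega)
      simp only [mat]; omega
    have hc : rowc R (ptIdx q) = cd fun k => mat R (ptIdx q) (ptIdx k) := by
      rw [rowc, force_eq, pkR_eq]
      refine (cd_eq_pk fun i hi => ?_).symm
      simp only [ptIdx_ptOf hi, mat, Nat.sub_eq, Nat.add_eq, Nat.mul_eq]; ring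
    have h1 := (nbeq_iff _ _).1 (h.2.1 _ hq)
    have h2 := dg_app1 hV hb (ptIdx_lt p)
    rw [← hc, h1, Nat.add_eq, Nat.mul_eq, Nat.mul_eq, Nat.shiftLeft_eq', Nat.shiftLeft_eq, pow16,
      ← pk_const, ← pk_single hq, ← pk_add,
      dg_pk (by intro k _; split_ifs <;> norm_num) (ptIdx_lt p)] at h2
    simp only [ptIdx_eq_iff, rowDot] at h2
    split_ifs at h2 ⊢ <;> omega
  · have h1 := ptIdx_lt i
    have h2 : ptIdx i ≠ 23 := fun e => hi (ptIdx_eq_23.1 e)
    rw [genN, if_pos (by omega), v44_apply]
    simp only [ptIdx_eq_iff, ptIdx_eq_23]
    by_cases a : j = i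
    · subst a; simp [hi]
    · simp [a]
  · rw [genN, if_neg (by omega), if_pos rfl, e8_apply]; simp only [ptIdx_eq_23]
  · rw [genN, if_neg (by omega), if_neg (by omega), if_pos (by omega), two_apply]
    simp
  · rw [genN, if_neg (by omega), if_neg (by omega), if_neg (by omega), odd1_apply]
    simp only [ptIdx_eq_23]

/-- The element of `Co0` given by a packed matrix. -/
noncomputable def el (R : ℕ) : Co0 :=
  @dite _ (matOK R = true) (Classical.propDecidable _) (fun h => ofMatrix _ (isAutMat_of_matOK h))
    fun _ => 1

theorem cd_el {R : ℕ} (h : matOK R = true) {x : Λ} (hx : nm x ≤ 64) :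
    cd ((el R • x : Λ) : Vec) = app R (cd (x : Vec)) := by
  refine (app_cd (matV_of_matOK h) (bd_of_nm hx) (bd_of_nm (by rwa [nm_smul])) fun i hi => ?_).symm
  rw [el, dif_pos h, eight_mul_ofMatrix, ptIdx_ptOf hi]; rfl

theorem el_smul_vec {R n : ℕ} (h : matOK R = true) (hn : nm (vec n) ≤ 64)
    (hc : cd (vec n : Vec) = n) : el R • vec n = vec (app R n) := by
  rw [← vec_cd_nm (x := el R • vec n) (by rwa [nm_smul]), cd_el h hn, hc]

theorem el_e8 {R : ℕ} (h : matOK R = true) (i j : GolayPt) :
    ((el R • e8 j : Λ) : Vec) i = mat R (ptIdx i) (ptIdx j) := by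
  rw [el, dif_pos h, ofMatrix_e8]

attribute [irreducible] cd dec val mT mat matV app1 c0 app rH isL okv vec rRev rowOf ipc okN rowc
  genL matOK el

end Cfsg.Agent.Spor.LC
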