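import Mathlib
import Cfsg.Agent.Spor.Comp.Pres

/-! Generated by tools/pg: stabiliser chain u43 -/

set_option autoImplicit false
set_option maxRecDepth 100000
set_option linter.unusedVariables false
set_option exponentiation.threshold 100000

namespace Cfsg.Agent.Spor.LC

open Cfsg.Agent.Spor

noncomputable def u43_S_t0 : BT :=
(.node (.node (.node (.node (.leaf (nat_lit 0x6f1c16a4225e99ca501ed887ec2cd7731d7d20213c38a2d436a1932252945206878e93ab766d67f325dfc382038bd8a0d4606871048ccd9124bdb231e9c60da7bddcf8b26de4a121d4e305d52ed9b994a0e1442b73a23152cf96d1cc118e7036690b))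
 (.leaf (nat_lit 0xddb6363ca6abbcb23e1c8cda7392d13e8ef948edce92ea85a9871aab09509e0638560b67706e46c313afa4c359064d142d72f63c5bb04ebf065eae2713600549aa13bb1129ec36388be4a19314bca44153c8410740aab1f44dcc09be6452e2d2c080))
) (.node (.leaf (nat_lit 0xb6933bb7f08abe5d1e989bd14b8503067b20859394c0e8418906f31da341ce89bb8d2fbbbc75f6f2f640aa7f226c6ab5317042322db2888d0c3c5ab24f2913415a25c421ce610464f2db15e73db20ed29c4da1ac66a1a6b4696a0c61964b5d330500))
 (.leaf (nat_lit 0xdbba8e159824d0b39f4abb70c7921612335956b354ae4de2398c77c89f39d1a398f2e8b8ce9286cb53901ad35af64c320c718a39dba5e2cdab041bd72fe0055c84b5eb0283204479f11bf4cc94761ca881daa5a9d959537367c4984a9a2248408080))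
)) (.node (.node (.leaf (nat_lit 0x4c5b217bfb2d8e081f3a0bae9fbe80ee35e4354161b9123b84e0441f48722c2825111edc351e3a965cbd862b4d84a747bcdeb69cb64542b75c604e020667d6554673359435ccc52a4d762db41b342c66690bd83456d542901375112748906cbb41da))
 (.leaf (nat_lit 0xb9bf7207a9b15fc38f5c4d8b254c0e5d9c6b3533a3d2356ce42feed5bd61553056ebe46bb5a22ca959296071b684959bab150e8ba8eee5be8011c49a038b398264da7b42c90f184d8d23fa83095c0ca189b80ebccc7a2c29014415206944f5e44080))
) (.leaf (nat_lit 0x8d299c118e41ccdb4433d764d057898e3a4de54b9b3499f89caa67ceba6658284c82d3ccd712523aaf40d7a0c2ad95a6b7864820d1f71c07919ce1058e8a0eb2f056e16d11a77c76821a524f54c36b4d850ad8b65d158085a0725544bf05b2c7ef80))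
)) (.node (.node (.node (.leaf (nat_lit 0xa4e86c18909fa2dd70a65797e653d0f6439957aa63b0a66d53699f6b0cd0480d42a5af761d925c89045661b00821860faadb9dc69864b0138f471505968ed78d14e0fc25e7599f76dab4e40a9917bdb1a4259033099919e5b008856239749500dab7))
 (.leaf (nat_lit 0x8f736eca795b424f3f52f486576044c9aeeb7147b03534f88d74a310cc46b0630ee4bcdf46d1b25a208512e9ec894f860b6fa6e946778f58c984b2150092abce994e31d7d617aac4e1d895f14b40b49b42b0e750b28c6b9701dfd4153200406a8080))
) (.node (.leaf (nat_lit 0x483dabb22f458c65b181b94217360d4776dcd5a0cdd1aa4523466305de62492a73e2e5b69cf8945aee3e5f09e5a8e41d605496ca92ecc3839d74aab62e6662403456302a0edeb17ea34048d08e085932c5a72037c2fc9c43ce2bc329a7267ab42580))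
 (.leaf (nat_lit 0xa3bb78f7a4b2c8cd664b994db66a36919c7c76b3a3ae397d835176e89f39853236f4d06b75885c40d72954756552f355b7190ee3e8cee93a789e16bc8348448218384a87d3201479a4b1730c886494a98ad80e40c24dfb8be884942c8545e5a08080))
)) (.node (.node (.leaf (nat_lit 0x2d9dbbea12da5f6c3b243b0b51b1c568f663aa90575102a59c1bd72c3e86ae1936c25d5e9d36b67ab60ad346f638fbae3500540ce21143bf90145ab38e2b03374a2421ba099172314a5a650c3a4448ce560c849a481b6bb2f2a6c18d3c40f04f1ecc))
 (.leaf (nat_lit 0xddbe8e1d70cc8b5d9a49f778b636be82edc654a0cb0d503d6596b69b1f3673db12b2c866d588ad4a2ca554d260cc6c01a92d8233e8f6e2ba219d1530afdc424e8600430b535ec878a88a06b4a32edce8e22489af9e504bcd11069cab5d5a47208080))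
) (.leaf (nat_lit 0x9f76e668558357096e40548a07b83c817418ef1a9f136819d9752f0294bec29038e6d5774648c10fac911d0353dd8e550a218369c659d5e57f8499458dda228c55b6f350cca78a2d092c94e94e66596871b335badc61368d296262637e817606d180))
)))

noncomputable def u43_S_t : BT :=
u43_S_t0

noncomputable def u43_S : ℕ → ℕ → ℕ := fun x i => Nat.land (Nat.shiftRight (BT.get u43_S_t x) (Nat.mul (nat_lit 7) i)) (nat_lit 127)

noncomputable def u43_defs : LT :=
(.node (.node (.node (.node (.leaf [nat_lit 0])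
 (.leaf [nat_lit 0,nat_lit 4,nat_lit 5,nat_lit 6,nat_lit 7,nat_lit 4,nat_lit 7])
) (.node (.leaf [nat_lit 0,nat_lit 2,nat_lit 2,nat_lit 3,nat_lit 2,nat_lit 1])
 (.leaf [nat_lit 0,nat_lit 9,nat_lit 8,nat_lit 9,nat_lit 10,nat_lit 10,nat_lit 9,nat_lit 10])
)) (.node (.node (.leaf [nat_lit 1,nat_lit 0])
 (.leaf [nat_lit 1,nat_lit 8])
) (.leaf [nat_lit 1,nat_lit 4])
)) (.node (.node (.node (.leaf [nat_lit 0])
 (.leaf [nat_lit 0,nat_lit 7,nat_lit 6,nat_lit 5,nat_lit 4,nat_lit 7,nat_lit 7,nat_lit 6,nat_lit 6,nat_lit 7,nat_lit 6])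
) (.node (.leaf [nat_lit 0,nat_lit 1,nat_lit 2,nat_lit 3,nat_lit 2,nat_lit 2,nat_lit 3])
 (.leaf [nat_lit 1,nat_lit 12])
)) (.node (.node (.leaf [nat_lit 1,nat_lit 1])
 (.leaf [nat_lit 0,nat_lit 10,nat_lit 10,nat_lit 9,nat_lit 10,nat_lit 10,nat_lit 9])
) (.leaf [nat_lit 1,nat_lit 5])
)))
noncomputable def u43_iota : ℕ → ℕ := getP (nat_lit 8) (nat_lit 255) (nat_lit 0x301020006040a080b0d0c)
noncomputable def u43_inv : ℕ → ℕ := getP (nat_lit 8) (nat_lit 255) (nat_lit 0x90a070805060304020001)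
noncomputable def u43_hws : LT := .leaf []

noncomputable def u43_T_t0 : BT :=
(.node (.node (.node (.node (.leaf (nat_lit 0xdbba8e159824d0b39f4abb70c7921612335956b354ae4de2398c77c89f39d1a398f2e8b8ce9286cb53901ad35af64c320c718a39dba5e2cdab041bd72fe0055c84b5eb0283204479f11bf4cc94761ca881daa5a9d959537367c4984a9a2248408080))
 (.leaf (nat_lit 0x4c5b217bfb2d8e081f3a0bae9fbe80ee35e4354161b9123b84e0441f48722c2825111edc351e3a965cbd862b4d84a747bcdeb69cb64542b75c604e020667d6554673359435ccc52a4d762db41b342c66690bd83456d542901375112748906cbb41da))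
) (.leaf (nat_lit 0xb9bf7207a9b15fc38f5c4d8b254c0e5d9c6b3533a3d2356ce42feed5bd61553056ebe46bb5a22ca959296071b684959bab150e8ba8eee5be8011c49a038b398264da7b42c90f184d8d23fa83095c0ca189b80ebccc7a2c29014415206944f5e44080))
) (.node (.node (.leaf (nat_lit 0xddbe8e1d70cc8b5d9a49f778b636be82edc654a0cb0d503d6596b69b1f3673db12b2c866d588ad4a2ca554d260cc6c01a92d8233e8f6e2ba219d1530afdc424e8600430b535ec878a88a06b4a32edce8e22489af9e504bcd11069cab5d5a47208080))
 (.leaf (nat_lit 0x2d9dbbea12da5f6c3b243b0b51b1c568f663aa90575102a59c1bd72c3e86ae1936c25d5e9d36b67ab60ad346f638fbae3500540ce21143bf90145ab38e2b03374a2421ba099172314a5a650c3a4448ce560c849a481b6bb2f2a6c18d3c40f04f1ecc))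
) (.leaf (nat_lit 0x8d299c118e41ccdb4433d764d057898e3a4de54b9b3499f89caa67ceba6658284c82d3ccd712523aaf40d7a0c2ad95a6b7864820d1f71c07919ce1058e8a0eb2f056e16d11a77c76821a524f54c36b4d850ad8b65d158085a0725544bf05b2c7ef80))
)) (.node (.node (.node (.leaf (nat_lit 0xa3bb78f7a4b2c8cd664b994db66a36919c7c76b3a3ae397d835176e89f39853236f4d06b75885c40d72954756552f355b7190ee3e8cee93a789e16bc8348448218384a87d3201479a4b1730c886494a98ad80e40c24dfb8be884942c8545e5a08080))
 (.leaf (nat_lit 0xa4e86c18909fa2dd70a65797e653d0f6439957aa63b0a66d53699f6b0cd0480d42a5af761d925c89045661b00821860faadb9dc69864b0138f471505968ed78d14e0fc25e7599f76dab4e40a9917bdb1a4259033099919e5b008856239749500dab7))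
) (.leaf (nat_lit 0xb6933bb7f08abe5d1e989bd14b8503067b20859394c0e8418906f31da341ce89bb8d2fbbbc75f6f2f640aa7f226c6ab5317042322db2888d0c3c5ab24f2913415a25c421ce610464f2db15e73db20ed29c4da1ac66a1a6b4696a0c61964b5d330500))
) (.node (.leaf (nat_lit 0xddb6363ca6abbcb23e1c8cda7392d13e8ef948edce92ea85a9871aab09509e0638560b67706e46c313afa4c359064d142d72f63c5bb04ebf065eae2713600549aa13bb1129ec36388be4a19314bca44153c8410740aab1f44dcc09be6452e2d2c080))
 (.leaf (nat_lit 0x6f1c16a4225e99ca501ed887ec2cd7731d7d20213c38a2d436a1932252945206878e93ab766d67f325dfc382038bd8a0d4606871048ccd9124bdb231e9c60da7bddcf8b26de4a121d4e305d52ed9b994a0e1442b73a23152cf96d1cc118e7036690b))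
)))

noncomputable def u43_T_t : BT :=
u43_T_t0

noncomputable def u43_T : ℕ → ℕ → ℕ := fun x i => Nat.land (Nat.shiftRight (BT.get u43_T_t x) (Nat.mul (nat_lit 7) i)) (nat_lit 127)

noncomputable def u43_E_t0 : BT :=
(.node (.node (.leaf (nat_lit 0x60f0218540881101a02b0280d42201c0380b02584b04600c2a04c0880c81e0340680d00983b03600c0a0040280900e052098090260430380f0160440560ac1e03407807019814048030158230141502204c0581300203b0880d00d82c07806c260240481502a0240060cc120330880701e01405602c0604408612c2182c0381102602c0a80f01e04b00410c0e03c0480702201c01802c1603100))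
 (.leaf (nat_lit 0x1408003020010000040100100c0000000101201800408000000000000020080000000000000a07010000000014100000000000000400000001825040000000000000141000000000000000008000000000000101181b0100000000501000002015006040010180000100682000000002824020000000000000040000000))
) (.node (.leaf (nat_lit 0xa0d41a8030400000281c020014000040540a0000000000141400406a0780e01500a0b0140040200141682c05a08002034030000028230280b01000402a0701682c0400140e024016094040040500000283406a0800201505805416814010014198300080cc028300060381a8050360141b0150200100b01d06a0d41a81c0300141682c0360281a8350560781581800a0301880000))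
 (.leaf (nat_lit 0x30100000000000000000000000000000000000000000000000000000000000000000000000000000000000004000008040000000000000000000001010000000000000000000000000000001000006000000030200000000000000c08000008000000000000000000000000000000000000000000000000000000001004000000000020080020000000000))
))

noncomputable def u43_E_t : BT :=
u43_E_t0

noncomputable def u43_E : ℕ → ℕ → ℕ := fun x i => Nat.land (Nat.shiftRight (BT.get u43_E_t x) (Nat.mul (nat_lit 11) i)) (nat_lit 2047)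

theorem u43_slp0 : allLt (nat_lit 12) (fun i => force (Nat.add (nat_lit 2) i) (slpOK u43_S u43_defs (nat_lit 112))) = true := by decide +kernel

theorem u43_ren : allLt (nat_lit 11) (fun x => force (u43_iota x) fun y => band (blt y (nat_lit 14)) (allRange (nat_lit 0) (nat_lit 112) fun i => Nat.beq (u43_S y i) (u43_T x i))) = true := by decide +kernel

theorem u43_L3_o : band (allRange (nat_lit 0) (nat_lit 112) (orbOK u43_T (nat_lit 3) (u43_E (nat_lit 3)) (Nat.beq (nat_lit 3)))) (band (Nat.ble (nat_lit 12) (count2 (nat_lit 112) fun p => Nat.ble 256 (u43_E (nat_lit 3) p))) (allLt (nat_lit 0) (fun x => Nat.beq (u43_T x (nat_lit 3)) (nat_lit 3)))) = true := by decide +kernel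

theorem u43_L2_o : band (allRange (nat_lit 0) (nat_lit 112) (orbOK u43_T (nat_lit 5) (u43_E (nat_lit 2)) (Nat.beq (nat_lit 2)))) (band (Nat.ble (nat_lit 30) (count2 (nat_lit 112) fun p => Nat.ble 256 (u43_E (nat_lit 2) p))) (allLt (nat_lit 3) (fun x => Nat.beq (u43_T x (nat_lit 2)) (nat_lit 2)))) = true := by decide +kernel

theorem u43_L1_o : band (allRange (nat_lit 0) (nat_lit 112) (orbOK u43_T (nat_lit 7) (u43_E (nat_lit 1)) (Nat.beq (nat_lit 1)))) (band (Nat.ble (nat_lit 81) (count2 (nat_lit 112) fun p => Nat.ble 256 (u43_E (nat_lit 1) p))) (allLt (nat_lit 5) (fun x => Nat.beq (u43_T x (nat_lit 1)) (nat_lit 1)))) = true := by decide +kernel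

theorem u43_L0_o : band (allRange (nat_lit 0) (nat_lit 112) (orbOK u43_T (nat_lit 11) (u43_E (nat_lit 0)) (Nat.beq (nat_lit 0)))) (band (Nat.ble (nat_lit 112) (count2 (nat_lit 112) fun p => Nat.ble 256 (u43_E (nat_lit 0) p))) (allLt (nat_lit 7) (fun x => Nat.beq (u43_T x (nat_lit 0)) (nat_lit 0)))) = true := by decide +kernel

/-- The letters: a strong generating set, deepest stabiliser first. -/
noncomputable def u43_g {G : Type*} [Group G] (a : ℕ → G) : ℕ → G := fun x => slp a 2 u43_defs (u43_iota x)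

theorem u43_tabs {G α : Type*} [Group G] [MulAction G α] {e : ℕ → α} {a : ℕ → G} (h0 : Tabs e 112 u43_S a 2) : Tabs e 112 u43_T (u43_g a) 11 :=
  Tabs.rename (ι := u43_iota) (g := slp a 2 u43_defs) ((Tabs.slp_base u43_defs h0).slp_add (by decide) _ u43_slp0) u43_ren

theorem u43_gen {G : Type*} [Group G] (a : ℕ → G) : genLt (u43_g a) 11 = genLt a 2 :=
  genLt_slp_eq a u43_defs (back := getP 8 255 (nat_lit 0x907)) (by decide +kernel)

theorem u43_low3 {G α : Type*} [Group G] [MulAction G α] {e : ℕ → α} {a : ℕ → G} (he : Set.InjOn e (Set.Iio 112)) (h0 : Tabs e 112 u43_S a 2) :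
    LowLevel (genLt (u43_g a) 3) (genLt (u43_g a) 0) (e 3) 12 :=
  Tabs.lowLevel (u43_tabs h0) he (by decide) (by decide) (by decide) u43_L3_o

theorem u43_ge3 {G α : Type*} [Group G] [MulAction G α] {e : ℕ → α} {a : ℕ → G} (he : Set.InjOn e (Set.Iio 112)) (h0 : Tabs e 112 u43_S a 2) :
    Finite (genLt (u43_g a) 3) → 12 ≤ Nat.card (genLt (u43_g a) 3) := fun hK =>
  (u43_low3 he h0).card hK (one_le_card_fin _)

theorem u43_fix3 {G α : Type*} [Group G] [MulAction G α] {e : ℕ → α} {a : ℕ → G} (he : Set.InjOn e (Set.Iio 112)) (h0 : Tabs e 112 u43_S a 2) :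
    ∀ X : Subgroup G, Finite X → (genLt (u43_g a) 3) ≤ X → 12 * Nat.card (fixB e X [3]) ≤ Nat.card X :=
  (u43_low3 he h0).card_fix (card_fix_nil _ _)

theorem u43_low2 {G α : Type*} [Group G] [MulAction G α] {e : ℕ → α} {a : ℕ → G} (he : Set.InjOn e (Set.Iio 112)) (h0 : Tabs e 112 u43_S a 2) :
    LowLevel (genLt (u43_g a) 5) (genLt (u43_g a) 3) (e 2) 30 :=
  Tabs.lowLevel (u43_tabs h0) he (by decide) (by decide) (by decide) u43_L2_o

theorem u43_ge2 {G α : Type*} [Group G] [MulAction G α] {e : ℕ → α} {a : ℕ → G} (he : Set.InjOn e (Set.Iio 112)) (h0 : Tabs e 112 u43_S a 2) :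
    Finite (genLt (u43_g a) 5) → 360 ≤ Nat.card (genLt (u43_g a) 5) := fun hK =>
  (u43_low2 he h0).card hK (u43_ge3 he h0)

theorem u43_fix2 {G α : Type*} [Group G] [MulAction G α] {e : ℕ → α} {a : ℕ → G} (he : Set.InjOn e (Set.Iio 112)) (h0 : Tabs e 112 u43_S a 2) :
    ∀ X : Subgroup G, Finite X → (genLt (u43_g a) 5) ≤ X → 360 * Nat.card (fixB e X [2, 3]) ≤ Nat.card X :=
  (u43_low2 he h0).card_fix (u43_fix3 he h0)

theorem u43_low1 {G α : Type*} [Group G] [MulAction G α] {e : ℕ → α} {a : ℕ → G} (he : Set.InjOn e (Set.Iio 112)) (h0 : Tabs e 112 u43_S a 2) :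
    LowLevel (genLt (u43_g a) 7) (genLt (u43_g a) 5) (e 1) 81 :=
  Tabs.lowLevel (u43_tabs h0) he (by decide) (by decide) (by decide) u43_L1_o

theorem u43_ge1 {G α : Type*} [Group G] [MulAction G α] {e : ℕ → α} {a : ℕ → G} (he : Set.InjOn e (Set.Iio 112)) (h0 : Tabs e 112 u43_S a 2) :
    Finite (genLt (u43_g a) 7) → 29160 ≤ Nat.card (genLt (u43_g a) 7) := fun hK =>
  (u43_low1 he h0).card hK (u43_ge2 he h0)

theorem u43_fix1 {G α : Type*} [Group G] [MulAction G α] {e : ℕ → α} {a : ℕ → G} (he : Set.InjOn e (Set.Iio 112)) (h0 : Tabs e 112 u43_S a 2) :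
    ∀ X : Subgroup G, Finite X → (genLt (u43_g a) 7) ≤ X → 29160 * Nat.card (fixB e X [1, 2, 3]) ≤ Nat.card X :=
  (u43_low1 he h0).card_fix (u43_fix2 he h0)

theorem u43_low0 {G α : Type*} [Group G] [MulAction G α] {e : ℕ → α} {a : ℕ → G} (he : Set.InjOn e (Set.Iio 112)) (h0 : Tabs e 112 u43_S a 2) :
    LowLevel (genLt (u43_g a) 11) (genLt (u43_g a) 7) (e 0) 112 :=
  Tabs.lowLevel (u43_tabs h0) he (by decide) (by decide) (by decide) u43_L0_o

theorem u43_ge0 {G α : Type*} [Group G] [MulAction G α] {e : ℕ → α} {a : ℕ → G} (he : Set.InjOn e (Set.Iio 112)) (h0 : Tabs e 112 u43_S a 2) :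
    Finite (genLt (u43_g a) 11) → 3265920 ≤ Nat.card (genLt (u43_g a) 11) := fun hK =>
  (u43_low0 he h0).card hK (u43_ge1 he h0)

theorem u43_fix0 {G α : Type*} [Group G] [MulAction G α] {e : ℕ → α} {a : ℕ → G} (he : Set.InjOn e (Set.Iio 112)) (h0 : Tabs e 112 u43_S a 2) :
    ∀ X : Subgroup G, Finite X → (genLt (u43_g a) 11) ≤ X → 3265920 * Nat.card (fixB e X [0, 1, 2, 3]) ≤ Nat.card X :=
  (u43_low0 he h0).card_fix (u43_fix1 he h0)

theorem u43_ub0 {G α : Type*} [Group G] [MulAction G α] {e : ℕ → α} {a : ℕ → G} (he : Set.InjOn e (Set.Iio 112)) (h0 : Tabs e 112 u43_S a 2) (hub : Nat.card (genLt a 2) ≠ 0 ∧ Nat.card (genLt a 2) ≤ 3265920) :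
    Nat.card (genLt (u43_g a) 11) ≠ 0 ∧ Nat.card (genLt (u43_g a) 11) ≤ 3265920 := by rw [u43_gen]; exact hub

theorem u43_level0 {G α : Type*} [Group G] [MulAction G α] {e : ℕ → α} {a : ℕ → G} (he : Set.InjOn e (Set.Iio 112)) (h0 : Tabs e 112 u43_S a 2) (hub : Nat.card (genLt a 2) ≠ 0 ∧ Nat.card (genLt a 2) ≤ 3265920) :
    Level (genLt (u43_g a) 11) (genLt (u43_g a) 7) (e 0) 112 :=
  ((u43_low0 he h0).level (c := 29160) (u43_ub0 he h0 hub) (u43_ge1 he h0)).1

theorem u43_ub1 {G α : Type*} [Group G] [MulAction G α] {e : ℕ → α} {a : ℕ → G} (he : Set.InjOn e (Set.Iio 112)) (h0 : Tabs e 112 u43_S a 2) (hub : Nat.card (genLt a 2) ≠ 0 ∧ Nat.card (genLt a 2) ≤ 3265920) :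
    Nat.card (genLt (u43_g a) 7) ≠ 0 ∧ Nat.card (genLt (u43_g a) 7) ≤ 29160 :=
  ((u43_low0 he h0).level (c := 29160) (u43_ub0 he h0 hub) (u43_ge1 he h0)).2

theorem u43_level1 {G α : Type*} [Group G] [MulAction G α] {e : ℕ → α} {a : ℕ → G} (he : Set.InjOn e (Set.Iio 112)) (h0 : Tabs e 112 u43_S a 2) (hub : Nat.card (genLt a 2) ≠ 0 ∧ Nat.card (genLt a 2) ≤ 3265920) :
    Level (genLt (u43_g a) 7) (genLt (u43_g a) 5) (e 1) 81 :=
  ((u43_low1 he h0).level (c := 360) (u43_ub1 he h0 hub) (u43_ge2 he h0)).1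

theorem u43_ub2 {G α : Type*} [Group G] [MulAction G α] {e : ℕ → α} {a : ℕ → G} (he : Set.InjOn e (Set.Iio 112)) (h0 : Tabs e 112 u43_S a 2) (hub : Nat.card (genLt a 2) ≠ 0 ∧ Nat.card (genLt a 2) ≤ 3265920) :
    Nat.card (genLt (u43_g a) 5) ≠ 0 ∧ Nat.card (genLt (u43_g a) 5) ≤ 360 :=
  ((u43_low1 he h0).level (c := 360) (u43_ub1 he h0 hub) (u43_ge2 he h0)).2

theorem u43_level2 {G α : Type*} [Group G] [MulAction G α] {e : ℕ → α} {a : ℕ → G} (he : Set.InjOn e (Set.Iio 112)) (h0 : Tabs e 112 u43_S a 2) (hub : Nat.card (genLt a 2) ≠ 0 ∧ Nat.card (genLt a 2) ≤ 3265920) :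
    Level (genLt (u43_g a) 5) (genLt (u43_g a) 3) (e 2) 30 :=
  ((u43_low2 he h0).level (c := 12) (u43_ub2 he h0 hub) (u43_ge3 he h0)).1

theorem u43_ub3 {G α : Type*} [Group G] [MulAction G α] {e : ℕ → α} {a : ℕ → G} (he : Set.InjOn e (Set.Iio 112)) (h0 : Tabs e 112 u43_S a 2) (hub : Nat.card (genLt a 2) ≠ 0 ∧ Nat.card (genLt a 2) ≤ 3265920) :
    Nat.card (genLt (u43_g a) 3) ≠ 0 ∧ Nat.card (genLt (u43_g a) 3) ≤ 12 :=
  ((u43_low2 he h0).level (c := 12) (u43_ub2 he h0 hub) (u43_ge3 he h0)).2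

theorem u43_level3 {G α : Type*} [Group G] [MulAction G α] {e : ℕ → α} {a : ℕ → G} (he : Set.InjOn e (Set.Iio 112)) (h0 : Tabs e 112 u43_S a 2) (hub : Nat.card (genLt a 2) ≠ 0 ∧ Nat.card (genLt a 2) ≤ 3265920) :
    Level (genLt (u43_g a) 3) (genLt (u43_g a) 0) (e 3) 12 :=
  ((u43_low3 he h0).level (c := 1) (u43_ub3 he h0 hub) (one_le_card_fin _)).1

theorem u43_card3 {G α : Type*} [Group G] [MulAction G α] {e : ℕ → α} {a : ℕ → G} (he : Set.InjOn e (Set.Iio 112)) (h0 : Tabs e 112 u43_S a 2) (hub : Nat.card (genLt a 2) ≠ 0 ∧ Nat.card (genLt a 2) ≤ 3265920) :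
    Nat.card (genLt (u43_g a) 3) = 12 :=
  (u43_level3 he h0 hub).card (card_genLt_zero _)

theorem u43_base3 {G α : Type*} [Group G] [MulAction G α] {e : ℕ → α} {a : ℕ → G} (he : Set.InjOn e (Set.Iio 112)) (h0 : Tabs e 112 u43_S a 2) (hub : Nat.card (genLt a 2) ≠ 0 ∧ Nat.card (genLt a 2) ≤ 3265920) :
    IsBase e (genLt (u43_g a) 3) [3] :=
  (u43_level3 he h0 hub).base (isBase_genLt_zero _ _)

theorem u43_card2 {G α : Type*} [Group G] [MulAction G α] {e : ℕ → α} {a : ℕ → G} (he : Set.InjOn e (Set.Iio 112)) (h0 : Tabs e 112 u43_S a 2) (hub : Nat.card (genLt a 2) ≠ 0 ∧ Nat.card (genLt a 2) ≤ 3265920) :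
    Nat.card (genLt (u43_g a) 5) = 360 :=
  (u43_level2 he h0 hub).card (u43_card3 he h0 hub)

theorem u43_base2 {G α : Type*} [Group G] [MulAction G α] {e : ℕ → α} {a : ℕ → G} (he : Set.InjOn e (Set.Iio 112)) (h0 : Tabs e 112 u43_S a 2) (hub : Nat.card (genLt a 2) ≠ 0 ∧ Nat.card (genLt a 2) ≤ 3265920) :
    IsBase e (genLt (u43_g a) 5) [2, 3] :=
  (u43_level2 he h0 hub).base (u43_base3 he h0 hub)

theorem u43_card1 {G α : Type*} [Group G] [MulAction G α] {e : ℕ → α} {a : ℕ → G} (he : Set.InjOn e (Set.Iio 112)) (h0 : Tabs e 112 u43_S a 2) (hub : Nat.card (genLt a 2) ≠ 0 ∧ Nat.card (genLt a 2) ≤ 3265920) :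
    Nat.card (genLt (u43_g a) 7) = 29160 :=
  (u43_level1 he h0 hub).card (u43_card2 he h0 hub)

theorem u43_base1 {G α : Type*} [Group G] [MulAction G α] {e : ℕ → α} {a : ℕ → G} (he : Set.InjOn e (Set.Iio 112)) (h0 : Tabs e 112 u43_S a 2) (hub : Nat.card (genLt a 2) ≠ 0 ∧ Nat.card (genLt a 2) ≤ 3265920) :
    IsBase e (genLt (u43_g a) 7) [1, 2, 3] :=
  (u43_level1 he h0 hub).base (u43_base2 he h0 hub)

theorem u43_card0 {G α : Type*} [Group G] [MulAction G α] {e : ℕ → α} {a : ℕ → G} (he : Set.InjOn e (Set.Iio 112)) (h0 : Tabs e 112 u43_S a 2) (hub : Nat.card (genLt a 2) ≠ 0 ∧ Nat.card (genLt a 2) ≤ 3265920) :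
    Nat.card (genLt (u43_g a) 11) = 3265920 :=
  (u43_level0 he h0 hub).card (u43_card1 he h0 hub)

theorem u43_base0 {G α : Type*} [Group G] [MulAction G α] {e : ℕ → α} {a : ℕ → G} (he : Set.InjOn e (Set.Iio 112)) (h0 : Tabs e 112 u43_S a 2) (hub : Nat.card (genLt a 2) ≠ 0 ∧ Nat.card (genLt a 2) ≤ 3265920) :
    IsBase e (genLt (u43_g a) 11) [0, 1, 2, 3] :=
  (u43_level0 he h0 hub).base (u43_base1 he h0 hub)

theorem u43_hinv {G α : Type*} [Group G] [MulAction G α] {e : ℕ → α} {a : ℕ → G} (he : Set.InjOn e (Set.Iio 112)) (h0 : Tabs e 112 u43_S a 2) (hub : Nat.card (genLt a 2) ≠ 0 ∧ Nat.card (genLt a 2) ≤ 3265920) : ∀ x < 11, u43_g a x * u43_g a (u43_inv x) = 1 :=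
  (u43_tabs h0).hinv_of_base (u43_base0 he h0 hub) (by decide +kernel)

theorem u43_card {G α : Type*} [Group G] [MulAction G α] {e : ℕ → α} {a : ℕ → G} (he : Set.InjOn e (Set.Iio 112)) (h0 : Tabs e 112 u43_S a 2) (hub : Nat.card (genLt a 2) ≠ 0 ∧ Nat.card (genLt a 2) ≤ 3265920) :
    Nat.card (genLt a 2) = 3265920 := by
  rw [← u43_gen]; exact u43_card0 he h0 hub

end Cfsg.Agent.Spor.LC
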