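import Mathlib
import Cfsg.Agent.Spor.Comp.Pres

/-! Generated by tools/pg: stabiliser chain u35 -/

set_option autoImplicit false
set_option maxRecDepth 100000
set_option linter.unusedVariables false
set_option exponentiation.threshold 100000

namespace Cfsg.Agent.Spor.LC

open Cfsg.Agent.Spor

noncomputable def u35_S_t0 : BT :=
(.node (.node (.node (.node (.leaf (nat_lit 0xa75bc55101652a472a8ab61c9e1d99f07aa213a2463d2e81a129057304d81c4d35d2847eb86164a7379ed4170f3773462be085fd8c3aaac784cfaf8cb6bef740c7e4144ef0137b7f31b350b76530e56e65b0f7b71d61abb2e13be968bae4bbdd6800b1e125f2584095de28ab1253))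
 (.leaf (nat_lit 0xd37c11271fe1d44a1c34138cee2db4223f73caf3b1cd178969de570eb7bc7b570d7b983129f151c754d08586568987bee0e3a4918bcdb8ff97a978981dc949335d3cebfc825bb1962ec57852cedbecab35ee2882ee844237cc303ecf4ab2141580bc71bd4b789e9350105080c080))
) (.leaf (nat_lit 0x2e256fb38bb1029274187fc922c71afa076b2e7d1934e67161622963cefdb7a90e20ae63427cbcac320794b3bf151ba515650ea1520934d4c582f122b63f6376ae9818cada4d186156826c702ffe759382caae53aeee225d88435be88781c0dcfbd11b737bd84f728cab98d6f1380))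
) (.node (.leaf (nat_lit 0x1dc53e595af230be6391d2d3d5b24f71a9aabb59ca4c893a10c5d6fec85e4f353082671ff301933a8dec2e3c43da8f5caa81e9a78665b66e9b4a0b0114b58e2c0fdbddf208668a8247cb031a0943018fe6b07d830bf09f65cc11437d7dd04b332aa90db429185c4dd8a92ed77fc0e))
 (.leaf (nat_lit 0x581d0460ea464e746cad3e6df065df614c4bf0d96464f0fcc7e65d20320ce9ad965049aeec216b2280b713d0972fd7c9352ddd78fe9aa9d7d4431a5b745e9d57b8e5123c3b408332b0d49eb1e4402aa865b97f4c6da3e255f2a528defc0c2671bc721381ddd63a07462c96ec9f00))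
)) (.node (.node (.node (.leaf (nat_lit 0x33b9f8a38b24f5399221e909a0e72abd1d6125915a5015bd8f15fc381a88a6aa81790349cc8b5da2f960e23bcc9a000dc31b76d906e563c176899ac77d2946d5f270eba0b4ba97758c47206e0dcc1dbbec2141fde7a902ffee82cb638287e2d4e85e582392f0c9f45472eb58fadb3))
 (.leaf (nat_lit 0x10234895321449d4a854ad6ac3668e1d3e79a366ae1bb974f1dbe7afe14389160418f1a449972983164cd72fa74aa55af5ad5bb976c59bd82fe2c38f266cba33e99d3e85199378f0e5cfaf4ede7d7bf9dfc7dd7ab66ddfb860e1a40791244ca162a60b99102450b0c1c2840608080))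
) (.leaf (nat_lit 0x20f168f536f15b1f38c460868295386787e1d7bb7839c78536993923e24ab27332791451bf3c5c32ec9d6311425825e67d02bc5437ccf3e06630da2100c06e6af2580b5126f7e70932d54d76d6a2b1ef4115c36a178e2b0373bd3615b2ed5bd2dc22cee5fbacd25c77694b0e93e00))
) (.node (.leaf (nat_lit 0xcfb45c87123d11631ead3ca7731dec308bb318fb2c2a9c586fdec18d1c1024746aa5036f6b6e03593a41dd49edc5d72aae9cd263e149340b60a98cbe334d16ed101e1d0da0b4b036b68e7aef297e9181f8e510fd26e6dc04a5b05f220abd15733faeb46619de5cdea1f219c50dc8))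
 (.leaf (nat_lit 0x3530b8f33a8deb7b1464f44f73282d66422d99cd3591b7b6eb9fb8f80ebf4b28acc6374986c2db272a7e601877a0392a10a97abdb178f7c92be355132c6f9b5a4e4d2d5b91d64522bf3d391e2d7143a26fa1ef021c4519f561782b881f93535cd2c36c70dca7a9a91542030414080))
)))

noncomputable def u35_S_t : BT :=
u35_S_t0

noncomputable def u35_S : ℕ → ℕ → ℕ := fun x i => Nat.land (Nat.shiftRight (BT.get u35_S_t x) (Nat.mul (nat_lit 7) i)) (nat_lit 127)

noncomputable def u35_defs : LT :=
(.node (.node (.node (.node (.leaf [nat_lit 0])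
 (.leaf [nat_lit 1,nat_lit 7])
) (.leaf [nat_lit 0,nat_lit 1,nat_lit 0,nat_lit 1,nat_lit 2,nat_lit 2,nat_lit 2,nat_lit 2,nat_lit 3,nat_lit 2,nat_lit 3])
) (.node (.leaf [nat_lit 1,nat_lit 0])
 (.leaf [nat_lit 1,nat_lit 5])
)) (.node (.node (.node (.leaf [nat_lit 0])
 (.leaf [nat_lit 0,nat_lit 7,nat_lit 7,nat_lit 7,nat_lit 7])
) (.leaf [nat_lit 0,nat_lit 2,nat_lit 2,nat_lit 3,nat_lit 2,nat_lit 1,nat_lit 0,nat_lit 0,nat_lit 3,nat_lit 2,nat_lit 2])
) (.node (.leaf [nat_lit 1,nat_lit 1])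
 (.leaf [nat_lit 0,nat_lit 5,nat_lit 4,nat_lit 6,nat_lit 4,nat_lit 6,nat_lit 6,nat_lit 6])
)))
noncomputable def u35_iota : ℕ → ℕ := getP (nat_lit 8) (nat_lit 255) (nat_lit 0x301020004080709)
noncomputable def u35_inv : ℕ → ℕ := getP (nat_lit 8) (nat_lit 255) (nat_lit 0x607040503010200)
noncomputable def u35_hws : LT := .leaf []

noncomputable def u35_T_t0 : BT :=
(.node (.node (.node (.leaf (nat_lit 0x10234895321449d4a854ad6ac3668e1d3e79a366ae1bb974f1dbe7afe14389160418f1a449972983164cd72fa74aa55af5ad5bb976c59bd82fe2c38f266cba33e99d3e85199378f0e5cfaf4ede7d7bf9dfc7dd7ab66ddfb860e1a40791244ca162a60b99102450b0c1c2840608080))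
 (.leaf (nat_lit 0xa75bc55101652a472a8ab61c9e1d99f07aa213a2463d2e81a129057304d81c4d35d2847eb86164a7379ed4170f3773462be085fd8c3aaac784cfaf8cb6bef740c7e4144ef0137b7f31b350b76530e56e65b0f7b71d61abb2e13be968bae4bbdd6800b1e125f2584095de28ab1253))
) (.node (.leaf (nat_lit 0xd37c11271fe1d44a1c34138cee2db4223f73caf3b1cd178969de570eb7bc7b570d7b983129f151c754d08586568987bee0e3a4918bcdb8ff97a978981dc949335d3cebfc825bb1962ec57852cedbecab35ee2882ee844237cc303ecf4ab2141580bc71bd4b789e9350105080c080))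
 (.leaf (nat_lit 0x33b9f8a38b24f5399221e909a0e72abd1d6125915a5015bd8f15fc381a88a6aa81790349cc8b5da2f960e23bcc9a000dc31b76d906e563c176899ac77d2946d5f270eba0b4ba97758c47206e0dcc1dbbec2141fde7a902ffee82cb638287e2d4e85e582392f0c9f45472eb58fadb3))
)) (.node (.node (.leaf (nat_lit 0x3530b8f33a8deb7b1464f44f73282d66422d99cd3591b7b6eb9fb8f80ebf4b28acc6374986c2db272a7e601877a0392a10a97abdb178f7c92be355132c6f9b5a4e4d2d5b91d64522bf3d391e2d7143a26fa1ef021c4519f561782b881f93535cd2c36c70dca7a9a91542030414080))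
 (.leaf (nat_lit 0x1dc53e595af230be6391d2d3d5b24f71a9aabb59ca4c893a10c5d6fec85e4f353082671ff301933a8dec2e3c43da8f5caa81e9a78665b66e9b4a0b0114b58e2c0fdbddf208668a8247cb031a0943018fe6b07d830bf09f65cc11437d7dd04b332aa90db429185c4dd8a92ed77fc0e))
) (.node (.leaf (nat_lit 0x2e256fb38bb1029274187fc922c71afa076b2e7d1934e67161622963cefdb7a90e20ae63427cbcac320794b3bf151ba515650ea1520934d4c582f122b63f6376ae9818cada4d186156826c702ffe759382caae53aeee225d88435be88781c0dcfbd11b737bd84f728cab98d6f1380))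
 (.leaf (nat_lit 0xcfb45c87123d11631ead3ca7731dec308bb318fb2c2a9c586fdec18d1c1024746aa5036f6b6e03593a41dd49edc5d72aae9cd263e149340b60a98cbe334d16ed101e1d0da0b4b036b68e7aef297e9181f8e510fd26e6dc04a5b05f220abd15733faeb46619de5cdea1f219c50dc8))
)))

noncomputable def u35_T_t : BT :=
u35_T_t0

noncomputable def u35_T : ℕ → ℕ → ℕ := fun x i => Nat.land (Nat.shiftRight (BT.get u35_T_t x) (Nat.mul (nat_lit 7) i)) (nat_lit 127)

noncomputable def u35_E_t0 : BT :=
(.node (.node (.leaf (nat_lit 0x505405400402307405504407304406305504403403404404304407306503301407402407403503401407302400403402500400306400405402306406300404205402500403301300406303300403401206400402307303305405404405305303406404402303506307407407402401207401405407301504504403404401400505404302402304500405404405400403406401405406501300402405501403406302401403405204302403507504401405301401407403404406406100))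
 (.leaf (nat_lit 0x202302201100000000))
) (.node (.leaf (nat_lit 0x803601600800403800803300401802801802302803703803703901801700602603502803702702901802802701901702802702801802602801901703701802703801600703603501403703800701702801801800802901602902901502603601902902801902602900701700602601601700800503800500402901902701301903203500703503701803703701903603902702800802802802902601601902603700901501602902803902802403402702802801a03903903a03100000))
 (.leaf (nat_lit 0x200100000000000000000000))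
))

noncomputable def u35_E_t : BT :=
u35_E_t0

noncomputable def u35_E : ℕ → ℕ → ℕ := fun x i => Nat.land (Nat.shiftRight (BT.get u35_E_t x) (Nat.mul (nat_lit 12) i)) (nat_lit 4095)

theorem u35_slp0 : allLt (nat_lit 8) (fun i => force (Nat.add (nat_lit 2) i) (slpOK u35_S u35_defs (nat_lit 126))) = true := by decide +kernel

theorem u35_ren : allLt (nat_lit 8) (fun x => force (u35_iota x) fun y => band (blt y (nat_lit 10)) (allRange (nat_lit 0) (nat_lit 126) fun i => Nat.beq (u35_S y i) (u35_T x i))) = true := by decide +kernel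

theorem u35_L3_o : band (allRange (nat_lit 0) (nat_lit 126) (orbOK u35_T (nat_lit 1) (u35_E (nat_lit 3)) (Nat.beq (nat_lit 6)))) (band (Nat.ble (nat_lit 2) (count2 (nat_lit 126) fun p => Nat.ble 256 (u35_E (nat_lit 3) p))) (allLt (nat_lit 0) (fun x => Nat.beq (u35_T x (nat_lit 6)) (nat_lit 6)))) = true := by decide +kernel

theorem u35_L2_o : band (allRange (nat_lit 0) (nat_lit 126) (orbOK u35_T (nat_lit 3) (u35_E (nat_lit 2)) (Nat.beq (nat_lit 2)))) (band (Nat.ble (nat_lit 4) (count2 (nat_lit 126) fun p => Nat.ble 256 (u35_E (nat_lit 2) p))) (allLt (nat_lit 1) (fun x => Nat.beq (u35_T x (nat_lit 2)) (nat_lit 2)))) = true := by decide +kernel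

theorem u35_L1_o : band (allRange (nat_lit 0) (nat_lit 126) (orbOK u35_T (nat_lit 4) (u35_E (nat_lit 1)) (Nat.beq (nat_lit 1)))) (band (Nat.ble (nat_lit 125) (count2 (nat_lit 126) fun p => Nat.ble 256 (u35_E (nat_lit 1) p))) (allLt (nat_lit 3) (fun x => Nat.beq (u35_T x (nat_lit 1)) (nat_lit 1)))) = true := by decide +kernel

theorem u35_L0_o : band (allRange (nat_lit 0) (nat_lit 126) (orbOK u35_T (nat_lit 8) (u35_E (nat_lit 0)) (Nat.beq (nat_lit 0)))) (band (Nat.ble (nat_lit 126) (count2 (nat_lit 126) fun p => Nat.ble 256 (u35_E (nat_lit 0) p))) (allLt (nat_lit 4) (fun x => Nat.beq (u35_T x (nat_lit 0)) (nat_lit 0)))) = true := by decide +kernel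

/-- The letters: a strong generating set, deepest stabiliser first. -/
noncomputable def u35_g {G : Type*} [Group G] (a : ℕ → G) : ℕ → G := fun x => slp a 2 u35_defs (u35_iota x)

theorem u35_tabs {G α : Type*} [Group G] [MulAction G α] {e : ℕ → α} {a : ℕ → G} (h0 : Tabs e 126 u35_S a 2) : Tabs e 126 u35_T (u35_g a) 8 :=
  Tabs.rename (ι := u35_iota) (g := slp a 2 u35_defs) ((Tabs.slp_base u35_defs h0).slp_add (by decide) _ u35_slp0) u35_ren

theorem u35_gen {G : Type*} [Group G] (a : ℕ → G) : genLt (u35_g a) 8 = genLt a 2 :=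
  genLt_slp_eq a u35_defs (back := getP 8 255 (nat_lit 0x604)) (by decide +kernel)

theorem u35_low3 {G α : Type*} [Group G] [MulAction G α] {e : ℕ → α} {a : ℕ → G} (he : Set.InjOn e (Set.Iio 126)) (h0 : Tabs e 126 u35_S a 2) :
    LowLevel (genLt (u35_g a) 1) (genLt (u35_g a) 0) (e 6) 2 :=
  Tabs.lowLevel (u35_tabs h0) he (by decide) (by decide) (by decide) u35_L3_o

theorem u35_ge3 {G α : Type*} [Group G] [MulAction G α] {e : ℕ → α} {a : ℕ → G} (he : Set.InjOn e (Set.Iio 126)) (h0 : Tabs e 126 u35_S a 2) :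
    Finite (genLt (u35_g a) 1) → 2 ≤ Nat.card (genLt (u35_g a) 1) := fun hK =>
  (u35_low3 he h0).card hK (one_le_card_fin _)

theorem u35_fix3 {G α : Type*} [Group G] [MulAction G α] {e : ℕ → α} {a : ℕ → G} (he : Set.InjOn e (Set.Iio 126)) (h0 : Tabs e 126 u35_S a 2) :
    ∀ X : Subgroup G, Finite X → (genLt (u35_g a) 1) ≤ X → 2 * Nat.card (fixB e X [6]) ≤ Nat.card X :=
  (u35_low3 he h0).card_fix (card_fix_nil _ _)

theorem u35_low2 {G α : Type*} [Group G] [MulAction G α] {e : ℕ → α} {a : ℕ → G} (he : Set.InjOn e (Set.Iio 126)) (h0 : Tabs e 126 u35_S a 2) :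
    LowLevel (genLt (u35_g a) 3) (genLt (u35_g a) 1) (e 2) 4 :=
  Tabs.lowLevel (u35_tabs h0) he (by decide) (by decide) (by decide) u35_L2_o

theorem u35_ge2 {G α : Type*} [Group G] [MulAction G α] {e : ℕ → α} {a : ℕ → G} (he : Set.InjOn e (Set.Iio 126)) (h0 : Tabs e 126 u35_S a 2) :
    Finite (genLt (u35_g a) 3) → 8 ≤ Nat.card (genLt (u35_g a) 3) := fun hK =>
  (u35_low2 he h0).card hK (u35_ge3 he h0)

theorem u35_fix2 {G α : Type*} [Group G] [MulAction G α] {e : ℕ → α} {a : ℕ → G} (he : Set.InjOn e (Set.Iio 126)) (h0 : Tabs e 126 u35_S a 2) :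
    ∀ X : Subgroup G, Finite X → (genLt (u35_g a) 3) ≤ X → 8 * Nat.card (fixB e X [2, 6]) ≤ Nat.card X :=
  (u35_low2 he h0).card_fix (u35_fix3 he h0)

theorem u35_low1 {G α : Type*} [Group G] [MulAction G α] {e : ℕ → α} {a : ℕ → G} (he : Set.InjOn e (Set.Iio 126)) (h0 : Tabs e 126 u35_S a 2) :
    LowLevel (genLt (u35_g a) 4) (genLt (u35_g a) 3) (e 1) 125 :=
  Tabs.lowLevel (u35_tabs h0) he (by decide) (by decide) (by decide) u35_L1_o

theorem u35_ge1 {G α : Type*} [Group G] [MulAction G α] {e : ℕ → α} {a : ℕ → G} (he : Set.InjOn e (Set.Iio 126)) (h0 : Tabs e 126 u35_S a 2) :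
    Finite (genLt (u35_g a) 4) → 1000 ≤ Nat.card (genLt (u35_g a) 4) := fun hK =>
  (u35_low1 he h0).card hK (u35_ge2 he h0)

theorem u35_fix1 {G α : Type*} [Group G] [MulAction G α] {e : ℕ → α} {a : ℕ → G} (he : Set.InjOn e (Set.Iio 126)) (h0 : Tabs e 126 u35_S a 2) :
    ∀ X : Subgroup G, Finite X → (genLt (u35_g a) 4) ≤ X → 1000 * Nat.card (fixB e X [1, 2, 6]) ≤ Nat.card X :=
  (u35_low1 he h0).card_fix (u35_fix2 he h0)

theorem u35_low0 {G α : Type*} [Group G] [MulAction G α] {e : ℕ → α} {a : ℕ → G} (he : Set.InjOn e (Set.Iio 126)) (h0 : Tabs e 126 u35_S a 2) :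
    LowLevel (genLt (u35_g a) 8) (genLt (u35_g a) 4) (e 0) 126 :=
  Tabs.lowLevel (u35_tabs h0) he (by decide) (by decide) (by decide) u35_L0_o

theorem u35_ge0 {G α : Type*} [Group G] [MulAction G α] {e : ℕ → α} {a : ℕ → G} (he : Set.InjOn e (Set.Iio 126)) (h0 : Tabs e 126 u35_S a 2) :
    Finite (genLt (u35_g a) 8) → 126000 ≤ Nat.card (genLt (u35_g a) 8) := fun hK =>
  (u35_low0 he h0).card hK (u35_ge1 he h0)

theorem u35_fix0 {G α : Type*} [Group G] [MulAction G α] {e : ℕ → α} {a : ℕ → G} (he : Set.InjOn e (Set.Iio 126)) (h0 : Tabs e 126 u35_S a 2) :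
    ∀ X : Subgroup G, Finite X → (genLt (u35_g a) 8) ≤ X → 126000 * Nat.card (fixB e X [0, 1, 2, 6]) ≤ Nat.card X :=
  (u35_low0 he h0).card_fix (u35_fix1 he h0)

theorem u35_ub0 {G α : Type*} [Group G] [MulAction G α] {e : ℕ → α} {a : ℕ → G} (he : Set.InjOn e (Set.Iio 126)) (h0 : Tabs e 126 u35_S a 2) (hub : Nat.card (genLt a 2) ≠ 0 ∧ Nat.card (genLt a 2) ≤ 126000) :
    Nat.card (genLt (u35_g a) 8) ≠ 0 ∧ Nat.card (genLt (u35_g a) 8) ≤ 126000 := by rw [u35_gen]; exact hub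

theorem u35_level0 {G α : Type*} [Group G] [MulAction G α] {e : ℕ → α} {a : ℕ → G} (he : Set.InjOn e (Set.Iio 126)) (h0 : Tabs e 126 u35_S a 2) (hub : Nat.card (genLt a 2) ≠ 0 ∧ Nat.card (genLt a 2) ≤ 126000) :
    Level (genLt (u35_g a) 8) (genLt (u35_g a) 4) (e 0) 126 :=
  ((u35_low0 he h0).level (c := 1000) (u35_ub0 he h0 hub) (u35_ge1 he h0)).1

theorem u35_ub1 {G α : Type*} [Group G] [MulAction G α] {e : ℕ → α} {a : ℕ → G} (he : Set.InjOn e (Set.Iio 126)) (h0 : Tabs e 126 u35_S a 2) (hub : Nat.card (genLt a 2) ≠ 0 ∧ Nat.card (genLt a 2) ≤ 126000) :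
    Nat.card (genLt (u35_g a) 4) ≠ 0 ∧ Nat.card (genLt (u35_g a) 4) ≤ 1000 :=
  ((u35_low0 he h0).level (c := 1000) (u35_ub0 he h0 hub) (u35_ge1 he h0)).2

theorem u35_level1 {G α : Type*} [Group G] [MulAction G α] {e : ℕ → α} {a : ℕ → G} (he : Set.InjOn e (Set.Iio 126)) (h0 : Tabs e 126 u35_S a 2) (hub : Nat.card (genLt a 2) ≠ 0 ∧ Nat.card (genLt a 2) ≤ 126000) :
    Level (genLt (u35_g a) 4) (genLt (u35_g a) 3) (e 1) 125 :=
  ((u35_low1 he h0).level (c := 8) (u35_ub1 he h0 hub) (u35_ge2 he h0)).1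

theorem u35_ub2 {G α : Type*} [Group G] [MulAction G α] {e : ℕ → α} {a : ℕ → G} (he : Set.InjOn e (Set.Iio 126)) (h0 : Tabs e 126 u35_S a 2) (hub : Nat.card (genLt a 2) ≠ 0 ∧ Nat.card (genLt a 2) ≤ 126000) :
    Nat.card (genLt (u35_g a) 3) ≠ 0 ∧ Nat.card (genLt (u35_g a) 3) ≤ 8 :=
  ((u35_low1 he h0).level (c := 8) (u35_ub1 he h0 hub) (u35_ge2 he h0)).2

theorem u35_level2 {G α : Type*} [Group G] [MulAction G α] {e : ℕ → α} {a : ℕ → G} (he : Set.InjOn e (Set.Iio 126)) (h0 : Tabs e 126 u35_S a 2) (hub : Nat.card (genLt a 2) ≠ 0 ∧ Nat.card (genLt a 2) ≤ 126000) :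
    Level (genLt (u35_g a) 3) (genLt (u35_g a) 1) (e 2) 4 :=
  ((u35_low2 he h0).level (c := 2) (u35_ub2 he h0 hub) (u35_ge3 he h0)).1

theorem u35_ub3 {G α : Type*} [Group G] [MulAction G α] {e : ℕ → α} {a : ℕ → G} (he : Set.InjOn e (Set.Iio 126)) (h0 : Tabs e 126 u35_S a 2) (hub : Nat.card (genLt a 2) ≠ 0 ∧ Nat.card (genLt a 2) ≤ 126000) :
    Nat.card (genLt (u35_g a) 1) ≠ 0 ∧ Nat.card (genLt (u35_g a) 1) ≤ 2 :=
  ((u35_low2 he h0).level (c := 2) (u35_ub2 he h0 hub) (u35_ge3 he h0)).2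

theorem u35_level3 {G α : Type*} [Group G] [MulAction G α] {e : ℕ → α} {a : ℕ → G} (he : Set.InjOn e (Set.Iio 126)) (h0 : Tabs e 126 u35_S a 2) (hub : Nat.card (genLt a 2) ≠ 0 ∧ Nat.card (genLt a 2) ≤ 126000) :
    Level (genLt (u35_g a) 1) (genLt (u35_g a) 0) (e 6) 2 :=
  ((u35_low3 he h0).level (c := 1) (u35_ub3 he h0 hub) (one_le_card_fin _)).1

theorem u35_card3 {G α : Type*} [Group G] [MulAction G α] {e : ℕ → α} {a : ℕ → G} (he : Set.InjOn e (Set.Iio 126)) (h0 : Tabs e 126 u35_S a 2) (hub : Nat.card (genLt a 2) ≠ 0 ∧ Nat.card (genLt a 2) ≤ 126000) :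
    Nat.card (genLt (u35_g a) 1) = 2 :=
  (u35_level3 he h0 hub).card (card_genLt_zero _)

theorem u35_base3 {G α : Type*} [Group G] [MulAction G α] {e : ℕ → α} {a : ℕ → G} (he : Set.InjOn e (Set.Iio 126)) (h0 : Tabs e 126 u35_S a 2) (hub : Nat.card (genLt a 2) ≠ 0 ∧ Nat.card (genLt a 2) ≤ 126000) :
    IsBase e (genLt (u35_g a) 1) [6] :=
  (u35_level3 he h0 hub).base (isBase_genLt_zero _ _)

theorem u35_card2 {G α : Type*} [Group G] [MulAction G α] {e : ℕ → α} {a : ℕ → G} (he : Set.InjOn e (Set.Iio 126)) (h0 : Tabs e 126 u35_S a 2) (hub : Nat.card (genLt a 2) ≠ 0 ∧ Nat.card (genLt a 2) ≤ 126000) :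
    Nat.card (genLt (u35_g a) 3) = 8 :=
  (u35_level2 he h0 hub).card (u35_card3 he h0 hub)

theorem u35_base2 {G α : Type*} [Group G] [MulAction G α] {e : ℕ → α} {a : ℕ → G} (he : Set.InjOn e (Set.Iio 126)) (h0 : Tabs e 126 u35_S a 2) (hub : Nat.card (genLt a 2) ≠ 0 ∧ Nat.card (genLt a 2) ≤ 126000) :
    IsBase e (genLt (u35_g a) 3) [2, 6] :=
  (u35_level2 he h0 hub).base (u35_base3 he h0 hub)

theorem u35_card1 {G α : Type*} [Group G] [MulAction G α] {e : ℕ → α} {a : ℕ → G} (he : Set.InjOn e (Set.Iio 126)) (h0 : Tabs e 126 u35_S a 2) (hub : Nat.card (genLt a 2) ≠ 0 ∧ Nat.card (genLt a 2) ≤ 126000) :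
    Nat.card (genLt (u35_g a) 4) = 1000 :=
  (u35_level1 he h0 hub).card (u35_card2 he h0 hub)

theorem u35_base1 {G α : Type*} [Group G] [MulAction G α] {e : ℕ → α} {a : ℕ → G} (he : Set.InjOn e (Set.Iio 126)) (h0 : Tabs e 126 u35_S a 2) (hub : Nat.card (genLt a 2) ≠ 0 ∧ Nat.card (genLt a 2) ≤ 126000) :
    IsBase e (genLt (u35_g a) 4) [1, 2, 6] :=
  (u35_level1 he h0 hub).base (u35_base2 he h0 hub)

theorem u35_card0 {G α : Type*} [Group G] [MulAction G α] {e : ℕ → α} {a : ℕ → G} (he : Set.InjOn e (Set.Iio 126)) (h0 : Tabs e 126 u35_S a 2) (hub : Nat.card (genLt a 2) ≠ 0 ∧ Nat.card (genLt a 2) ≤ 126000) :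
    Nat.card (genLt (u35_g a) 8) = 126000 :=
  (u35_level0 he h0 hub).card (u35_card1 he h0 hub)

theorem u35_base0 {G α : Type*} [Group G] [MulAction G α] {e : ℕ → α} {a : ℕ → G} (he : Set.InjOn e (Set.Iio 126)) (h0 : Tabs e 126 u35_S a 2) (hub : Nat.card (genLt a 2) ≠ 0 ∧ Nat.card (genLt a 2) ≤ 126000) :
    IsBase e (genLt (u35_g a) 8) [0, 1, 2, 6] :=
  (u35_level0 he h0 hub).base (u35_base1 he h0 hub)

theorem u35_hinv {G α : Type*} [Group G] [MulAction G α] {e : ℕ → α} {a : ℕ → G} (he : Set.InjOn e (Set.Iio 126)) (h0 : Tabs e 126 u35_S a 2) (hub : Nat.card (genLt a 2) ≠ 0 ∧ Nat.card (genLt a 2) ≤ 126000) : ∀ x < 8, u35_g a x * u35_g a (u35_inv x) = 1 :=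
  (u35_tabs h0).hinv_of_base (u35_base0 he h0 hub) (by decide +kernel)

theorem u35_card {G α : Type*} [Group G] [MulAction G α] {e : ℕ → α} {a : ℕ → G} (he : Set.InjOn e (Set.Iio 126)) (h0 : Tabs e 126 u35_S a 2) (hub : Nat.card (genLt a 2) ≠ 0 ∧ Nat.card (genLt a 2) ≤ 126000) :
    Nat.card (genLt a 2) = 126000 := by
  rw [← u35_gen]; exact u35_card0 he h0 hub

end Cfsg.Agent.Spor.LC
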